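import Groth.Prelude.Def_Frob
import Groth.Prelude.Def_NonAbH2
import Groth.Agent.LVFrob.Basic
import Groth.Agent.StrongConn25.Basic
import Groth.Agent.SGA3cLib.BCPoints
import Groth.Agent.UnipStruct.VecGroup
import Mathlib.AlgebraicGeometry.Morphisms.LocalFlatDescent

/-!
# Iterated Frobenius kernels of group schemes over a field: finite connected, with smooth quotient
-/

set_option autoImplicit false
set_option backward.isDefEq.respectTransparency.types false
set_option linter.style.haveILetI false
set_option maxHeartbeats 1000000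

universe u

open CategoryTheory CategoryTheory.Limits MonoidalCategory CartesianMonoidalCategory MonObj GrpObj AlgebraicGeometry
open Opposite TopologicalSpace

noncomputable section

namespace Groth.Agent.Frob25

open SGA3cLib AlgGrpLib

variable {k : Type u} [Field k]

local notation "𝕊" => Spec (CommRingCat.of k)

/-- A schematically dominant homomorphism is flat, without quasi-compactness of the groups. -/
theorem flat_of_ker {E Q : Over 𝕊} [GrpObj E] [GrpObj Q] [LocallyOfFiniteType E.hom]
    [LocallyOfFiniteType Q.hom] (f : E ⟶ Q) [IsMonHom f] [QuasiCompact f.left] (hf : f.left.ker = ⊥) :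
    Flat f.left := by
  let κ := UnipStruct.kerι f
  haveI : IsMonHom κ := UnipStruct.isMonHom_kerι f
  haveI : Flat (UnipStruct.kerObj f).hom := inferInstance
  obtain ⟨P, _, q, hq, hquot, hP, m, hm, hmono, hqm⟩ :=
    Groth.Agent.S5417.result _ E Q (Or.inl inferInstance) f (UnipStruct.kerObj f) κ (UnipStruct.isKernel_kerι f)
  haveI := hm
  haveI := hmono
  haveI := hP
  haveI : Surjective q.left := hquot.1
  haveI : Flat q.left := hquot.2.1
  haveI : QuasiCompact (q.left ≫ m.left) := by rw [← Over.comp_left, hqm]; infer_instance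
  haveI : QuasiCompact m.left := by
    refine ⟨fun U hU hcU => ?_⟩
    have h := (QuasiCompact.isCompact_preimage (f := q.left ≫ m.left) U hU hcU).image q.left.continuous
    convert h using 1
    rw [show (q.left ≫ m.left).base ⁻¹' U = q.left.base ⁻¹' (m.left.base ⁻¹' U) from rfl,
      Set.image_preimage_eq _ q.left.surjective]
  haveI : IsClosedImmersion m.left := Groth.Agent.S3036.result k P Q m
  haveI : IsIso m.left := by
    rw [IsClosedImmersion.isIso_iff_ker_eq_bot, ← le_bot_iff, ← hf, ← hqm, Over.comp_left]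
    exact Scheme.Hom.le_ker_comp _ _
  rw [← hqm, Over.comp_left]
  infer_instance

/-- Every nilpotent element of a stalk is killed by the `q`-th power. -/
def NilExp (X : Scheme.{u}) (q : ℕ) : Prop :=
  ∀ (x : X) (a : X.presheaf.stalk x), IsNilpotent a → a ^ q = 0

theorem exists_nilExp (K : Type u) [Field K] [IsAlgClosed K] (G : Over (Spec (CommRingCat.of K))) [GrpObj G]
    [LocallyOfFiniteType G.hom] : ∃ N : ℕ, ∀ q, N ≤ q → NilExp G.left q := by
  haveI : IsLocallyNoetherian G.left := LocallyOfFiniteType.isLocallyNoetherian G.hom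
  haveI : JacobsonSpace G.left := LocallyOfFiniteType.jacobsonSpace G.hom
  let e : G.left := η[G].left.base (IsLocalRing.closedPoint K)
  obtain ⟨U, hU, heU, -⟩ := exists_isAffineOpen_mem_and_subset (U := ⊤) (x := e) trivial
  haveI : IsNoetherianRing Γ(G.left, U) := IsLocallyNoetherian.component_noetherian ⟨U, hU⟩
  obtain ⟨N, hN⟩ := IsNoetherianRing.isNilpotent_nilradical Γ(G.left, U)
  refine ⟨N, fun q hq => ?_⟩
  have hloc : ∀ y ∈ U, ∀ a : G.left.presheaf.stalk y, IsNilpotent a → a ^ q = 0 := by
    intro y hy a ⟨m, hm⟩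
    haveI := hU.isLocalization_stalk ⟨y, hy⟩
    letI := TopCat.Presheaf.algebra_section_stalk G.left.presheaf (⟨y, hy⟩ : U)
    obtain ⟨b, s, rfl⟩ := IsLocalization.exists_mk'_eq (hU.primeIdealOf ⟨y, hy⟩).asIdeal.primeCompl a
    rw [← IsLocalization.mk'_pow, IsLocalization.mk'_eq_zero_iff] at hm
    obtain ⟨t, ht⟩ := hm
    have hnil : (t : Γ(G.left, U)) * b ∈ nilradical Γ(G.left, U) := by
      rw [mem_nilradical]
      refine ⟨m + 1, ?_⟩
      rw [mul_pow, pow_succ, pow_succ b]
      linear_combination ((t : Γ(G.left, U)) ^ m * b) * ht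
    have hz : ((t : Γ(G.left, U)) * b) ^ q = 0 := by
      refine pow_eq_zero_of_le hq ?_
      have := Ideal.pow_mem_pow hnil N
      rw [hN] at this
      exact this
    rw [← IsLocalization.mk'_pow, IsLocalization.mk'_eq_zero_iff]
    exact ⟨t ^ q, by rw [SubmonoidClass.coe_pow, ← mul_pow]; exact hz⟩
  intro x a ha
  obtain ⟨c, hc, hcc⟩ := DimLib.exists_isClosed_singleton_mem G.hom (S := closure {x}) ⟨x, subset_closure rfl⟩
    isClosed_closure.isLocallyClosed
  let y : 𝟙_ (Over (Spec (CommRingCat.of K))) ⟶ G :=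
    Over.homMk (pointOfClosedPoint G.hom c hcc) (pointOfClosedPoint_comp G.hom c hcc)
  let α : G ≅ G := (GrpObj.mulRight η[G]).symm ≪≫ GrpObj.mulRight y
  have hα : η[G] ≫ α.hom = y := by
    dsimp only [Iso.trans_hom, Iso.symm_hom, α]
    rw [← Category.assoc, ← Iso.eq_comp_inv]
    simp [comp_lift_assoc]
  let h : G.left ≅ G.left := (Over.forget _).mapIso α.symm
  have hx : h.hom.base x ∈ U := by
    have h1 : h.hom.base c = e := by
      have hc' : α.hom.left.base e = c :=
        (congrArg (fun f : 𝟙_ (Over (Spec (CommRingCat.of K))) ⟶ G => f.left.base (IsLocalRing.closedPoint K)) hα).trans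
          (pointOfClosedPoint_apply G.hom c hcc _)
      rw [← hc']
      exact congrArg (fun f : G ⟶ G => f.left.base e) α.hom_inv_id
    exact ((specializes_iff_mem_closure.2 hc).map h.hom.continuous).mem_open U.isOpen (h1 ▸ heU)
  haveI : IsIso (h.hom.stalkMap x) := inferInstance
  obtain ⟨b, rfl⟩ : ∃ b, (h.hom.stalkMap x).hom b = a :=
    (asIso (h.hom.stalkMap x)).commRingCatIsoToRingEquiv.surjective a
  have hb : IsNilpotent b :=
    (IsNilpotent.map_iff (asIso (h.hom.stalkMap x)).commRingCatIsoToRingEquiv.injective).1 ha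
  rw [← map_pow, hloc _ hx b hb, map_zero]

section CharP

variable (p : ℕ) [Fact p.Prime] [CharP k p]

instance (X : Over 𝕊) : FrobSch.IsCharP X.left p := FrobSch.IsCharP.of_hom X.hom p

/-- The iterated relative Frobenius. -/
def rel (n : ℕ) (X : Over 𝕊) : X ⟶ Red.bc (LVFrob.FN p 𝕊 n) X :=
  Over.homMk (pullback.lift (LVFrob.FN p X.left n) X.hom (LVFrob.FN_comm p X.hom n)) (pullback.lift_snd _ _ _)

theorem rel_natural (n : ℕ) {X Y : Over 𝕊} (f : X ⟶ Y) :
    rel p n X ≫ (Over.pullback (LVFrob.FN p 𝕊 n)).map f = f ≫ rel p n Y := by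
  apply Over.OverMorphism.ext
  apply pullback.hom_ext
  · simp only [rel, Over.comp_left, Over.homMk_left, Over.pullback_map_left, Category.assoc]
    erw [pullback.lift_fst, pullback.lift_fst_assoc, pullback.lift_fst]
    exact LVFrob.FN_comm p f.left n
  · simp only [rel, Over.comp_left, Over.homMk_left, Over.pullback_map_left, Category.assoc]
    erw [pullback.lift_snd, pullback.lift_snd, pullback.lift_snd]
    exact (Over.w f).symm

theorem isMonHom_rel (n : ℕ) (G : Over 𝕊) [GrpObj G] : IsMonHom (rel p n G) :=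
  BCPoints.isMonHom_of_mul _ fun X x y => by
    rw [← rel_natural, ← rel_natural, ← rel_natural, Functor.map_mul, MonObj.comp_mul]

theorem isIso_FN_algClosed (K : Type u) [Field K] [IsAlgClosed K] [CharP K p] (m : ℕ) :
    IsIso (LVFrob.FN p (Spec (CommRingCat.of K)) m) := by
  haveI : PerfectRing K p := PerfectRing.ofSurjective K p fun x => by
    obtain ⟨y, hy⟩ := IsAlgClosed.exists_pow_nat_eq x (Fact.out : p.Prime).pos
    exact ⟨y, hy⟩
  induction m with
  | zero => exact inferInstanceAs (IsIso (𝟙 _))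
  | succ m ih =>
    haveI : IsIso (FrobSch.frob (Spec (CommRingCat.of K)) p) := by
      haveI : IsIso (Spec.map (CommRingCat.ofHom (frobenius K p))) :=
        isIso_SpecMap_iff.2 (bijective_frobenius K p)
      have h : FrobSch.frob (Spec (CommRingCat.of K)) p = Spec.map (CommRingCat.ofHom (frobenius K p)) := by
        refine AlgebraicGeometry.ext_of_isAffine ?_
        rw [← cancel_epi (Scheme.ΓSpecIso (CommRingCat.of K)).inv, ← cancel_mono (Scheme.ΓSpecIso (CommRingCat.of K)).hom]
        simp only [Category.assoc, Scheme.ΓSpecIso_naturality, Iso.inv_hom_id_assoc]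
        ext r
        show (Scheme.ΓSpecIso (CommRingCat.of K)).hom
          ((FrobSch.frob (Spec (CommRingCat.of K)) p).appTop ((Scheme.ΓSpecIso (CommRingCat.of K)).inv r)) = r ^ p
        rw [FrobSch.frob_appTop, map_pow]
        simp
      rw [h]; infer_instance
    rw [LVFrob.FN]; infer_instance

/-- An iterate of the Frobenius factors through the reduction. -/
theorem exists_factor_red (X : Scheme.{u}) [FrobSch.IsCharP X p] (m : ℕ) (h : NilExp X (p ^ m)) :
    ∃ a : X ⟶ (Scheme.IdealSheafData.vanishingIdeal (⊤ : TopologicalSpace.Closeds X)).subscheme,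
      a ≫ (Scheme.IdealSheafData.vanishingIdeal (⊤ : TopologicalSpace.Closeds X)).subschemeι = LVFrob.FN p X m := by
  let I := Scheme.IdealSheafData.vanishingIdeal (⊤ : TopologicalSpace.Closeds X)
  refine ⟨IsClosedImmersion.lift I.subschemeι (LVFrob.FN p X m) ?_, IsClosedImmersion.lift_fac _ _ _⟩
  rw [Scheme.IdealSheafData.ker_subschemeι, ← Scheme.IdealSheafData.map_bot,
    Scheme.IdealSheafData.le_map_iff_comap_le]
  intro U
  refine (LVFrob.ideal_comap_FN_le p I m U).trans (Ideal.span_le.2 ?_)
  rintro _ ⟨s, hs, rfl⟩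
  have hn : IsNilpotent s := by
    have hs' : s ∈ X.nilradical.ideal U := Scheme.IdealSheafData.vanishingIdeal_top (X := X) ▸ hs
    simp [Scheme.nilradical] at hs'
    obtain ⟨d, hd⟩ := hs'
    exact ⟨d, Ideal.mem_bot.1 hd⟩
  show s ^ p ^ m ∈ (⊥ : Ideal Γ(X, U.1))
  rw [Ideal.mem_bot]
  refine TopCat.Presheaf.section_ext X.sheaf _ _ _ fun x hx => ?_
  show (X.presheaf.germ U.1 x hx) (s ^ p ^ m) = (X.presheaf.germ U.1 x hx) 0
  rw [map_pow, map_zero]
  exact h x _ (hn.map _)

end CharP

end Groth.Agent.Frob25
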