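import Groth.Agent.Frob25.Kernel
import Groth.Agent.Desc19b.Imm
import Groth.Agent.SGA3cLib.MultHomLocus
import Groth.Agent.SGA3xLib.SepFibre
import Groth.Agent.S0353

/-!
# Quotient of a group scheme by an iterated Frobenius kernel
-/

set_option autoImplicit false
set_option backward.isDefEq.respectTransparency.types false
set_option linter.style.haveILetI false
set_option maxHeartbeats 1000000

universe u

open CategoryTheory CategoryTheory.Limits MonoidalCategory CartesianMonoidalCategory MonObj GrpObj AlgebraicGeometry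
open Opposite TopologicalSpace

noncomputable section

namespace Groth.Agent.Frob25

open SGA3cLib AlgGrpLib

variable {k : Type u} [Field k]

local notation "𝕊" => Spec (CommRingCat.of k)

theorem isPullback_map_left {S' S : Scheme.{u}} (s : S' ⟶ S) {A B : Over S} (f : A ⟶ B) :
    IsPullback (pullback.fst A.hom s) ((Over.pullback s).map f).left f.left (pullback.fst B.hom s) := by
  exact MultHomLocus.isPullback_map (u := f) s

/-- In characteristic `p` a group scheme is an extension of a smooth one by a finite connected one. -/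
theorem exists_quotient (p : ℕ) [Fact p.Prime] [CharP k p] (G : Over 𝕊) [GrpObj G] [LocallyOfFiniteType G.hom] :
    ∃ (Q : Over 𝕊) (_ : GrpObj Q) (v : G ⟶ Q), IsMonHom v ∧ Flat v.left ∧ Surjective v.left ∧
      Function.Injective v.left.base ∧ Smooth Q.hom := by
  let K := AlgebraicClosure k
  let s : Spec (CommRingCat.of K) ⟶ 𝕊 := Spec.map (CommRingCat.ofHom (algebraMap k K))
  haveI : CharP K p := charP_of_injective_algebraMap (algebraMap k K).injective p
  haveI : Flat s := by
    rw [Flat.SpecMap_iff, CommRingCat.hom_ofHom, RingHom.flat_algebraMap_iff]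
    infer_instance
  haveI : Surjective s := ⟨fun x => ⟨IsLocalRing.closedPoint K, Subsingleton.elim (α := PrimeSpectrum k) _ _⟩⟩
  let GK : Over (Spec (CommRingCat.of K)) := Red.bc s G
  haveI : LocallyOfFiniteType GK.hom := inferInstanceAs (LocallyOfFiniteType (pullback.snd G.hom s))
  obtain ⟨n, hn⟩ := exists_nilExp K GK
  have hnil : NilExp GK.left (p ^ n) := hn _ (Nat.lt_pow_self (Fact.out : p.Prime).one_lt).le
  let φ := LVFrob.FN p 𝕊 n
  let T := Red.bc φ G
  let F : G ⟶ T := rel p n G
  haveI : IsMonHom F := isMonHom_rel p n G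
  have hFfst : F.left ≫ pullback.fst G.hom φ = LVFrob.FN p G.left n := pullback.lift_fst _ _ _
  haveI : QuasiCompact F.left := by
    haveI : QuasiCompact (F.left ≫ pullback.fst G.hom φ) := by
      rw [hFfst]
      refine ⟨fun U hU hcU => ?_⟩
      convert hcU using 1
      ext x
      simp [LVFrob.FN_apply]
    haveI : IsAffineHom φ := inferInstance
    exact QuasiCompact.of_comp F.left (pullback.fst G.hom φ)
  haveI : LocallyOfFiniteType T.hom := inferInstanceAs (LocallyOfFiniteType (pullback.snd G.hom φ))
  obtain ⟨Q, _, i, f, _, _, hf, _, hker, hqc, hsurj⟩ := SGA3xLib.SchemImage26.exists_image F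
  haveI := hqc
  haveI := hsurj
  haveI : LocallyOfFiniteType Q.hom := by rw [← Over.w i]; infer_instance
  refine ⟨Q, inferInstance, f, inferInstance, flat_of_ker f hker, inferInstance, ?_, ?_⟩
  · intro x y hxy
    have h : ∀ z, (pullback.fst G.hom φ).base (i.left.base (f.left.base z)) = z := fun z => by
      have h1 := congrArg (fun g : G ⟶ T => (g.left ≫ pullback.fst G.hom φ).base z) hf
      exact h1.trans ((congrArg (fun g : G.left ⟶ G.left => g z) hFfst).trans (LVFrob.FN_apply p n z))
    rw [← h x, ← h y, hxy]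
  let P := Over.pullback s
  let QK : Over (Spec (CommRingCat.of K)) := Red.bc s Q
  haveI : LocallyOfFiniteType QK.hom := inferInstanceAs (LocallyOfFiniteType (pullback.snd Q.hom s))
  let iK : QK ⟶ Red.bc s T := P.map i
  let fK : GK ⟶ QK := P.map f
  haveI : IsClosedImmersion iK.left := MorphismProperty.of_isPullback (isPullback_map_left s i) ‹_›
  haveI : QuasiCompact fK.left := MorphismProperty.of_isPullback (isPullback_map_left s f) ‹_›
  haveI : Surjective fK.left := MorphismProperty.of_isPullback (isPullback_map_left s f) ‹_›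
  have hkerK : fK.left.ker = ⊥ := by
    have h := isPullback_map_left s f
    haveI : Flat (pullback.fst Q.hom s) := MorphismProperty.pullback_fst _ _ inferInstance
    rw [← h.isoPullback_hom_snd, Scheme.Hom.ker_comp_of_isIso, Desc19b.ker_pullback_snd_of_flat, hker,
      Scheme.IdealSheafData.comap_bot]
  -- the comparison of the twist with the base change
  let θ := LVFrob.FN p (Spec (CommRingCat.of K)) n
  haveI : IsIso θ := isIso_FN_algClosed p K n
  let A : (Red.bc s T).left ⟶ G.left := pullback.fst T.hom s ≫ pullback.fst G.hom φ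
  let B : (Red.bc s T).left ⟶ Spec (CommRingCat.of K) := pullback.snd T.hom s
  have hAB : A ≫ G.hom = (B ≫ θ) ≫ s := by
    simp only [A, B, Category.assoc]
    rw [pullback.condition, ← Category.assoc]
    show (pullback.fst T.hom s ≫ T.hom) ≫ φ = _
    rw [pullback.condition, Category.assoc]
    exact congrArg (pullback.snd T.hom s ≫ ·) (LVFrob.FN_comm p s n).symm
  let Ψ : (Red.bc s T).left ⟶ GK.left := pullback.lift A (B ≫ θ) hAB
  have hback : (pullback.snd G.hom s ≫ inv θ) ≫ s ≫ φ = pullback.fst G.hom s ≫ G.hom := by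
    rw [Category.assoc, ← LVFrob.FN_comm p s n, ← Category.assoc (inv θ), IsIso.inv_hom_id, Category.id_comp,
      pullback.condition]
  let Φ₁ : GK.left ⟶ T.left :=
    pullback.lift (pullback.fst G.hom s) ((pullback.snd G.hom s ≫ inv θ) ≫ s) (by
      rw [Category.assoc, hback])
  let Φ : GK.left ⟶ (Red.bc s T).left :=
    pullback.lift Φ₁ (pullback.snd G.hom s ≫ inv θ) (pullback.lift_snd _ _ _)
  have hΨ1 : Ψ ≫ pullback.fst G.hom s = A := pullback.lift_fst _ _ _
  have hΨ2 : Ψ ≫ pullback.snd G.hom s = B ≫ θ := pullback.lift_snd _ _ _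
  have hΦ1 : Φ ≫ pullback.fst T.hom s = Φ₁ := pullback.lift_fst _ _ _
  have hΦ2 : Φ ≫ pullback.snd T.hom s = pullback.snd G.hom s ≫ inv θ := pullback.lift_snd _ _ _
  have hΦ3 : Φ₁ ≫ pullback.fst G.hom φ = pullback.fst G.hom s := pullback.lift_fst _ _ _
  have hΦ4 : Φ₁ ≫ pullback.snd G.hom φ = (pullback.snd G.hom s ≫ inv θ) ≫ s := pullback.lift_snd _ _ _
  have hΨΦ : (Ψ ≫ Φ) ≫ pullback.snd T.hom s = pullback.snd T.hom s := by
    rw [Category.assoc, hΦ2, ← Category.assoc, hΨ2, Category.assoc, IsIso.hom_inv_id, Category.comp_id]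
  haveI : IsIso Ψ := ⟨Φ, by
    apply pullback.hom_ext
    · rw [Category.id_comp]
      apply pullback.hom_ext
      · rw [Category.assoc, Category.assoc Ψ, ← Category.assoc Φ, hΦ1, hΦ3, hΨ1]
      · rw [Category.assoc Ψ, hΦ1, Category.assoc, hΦ4, ← Category.assoc, ← Category.assoc, hΨ2,
          Category.assoc B, IsIso.hom_inv_id, Category.comp_id]
        exact (pullback.condition (f := T.hom) (g := s)).symm
    · rw [Category.id_comp]; exact hΨΦ, by
    apply pullback.hom_ext
    · show (Φ ≫ Ψ) ≫ pullback.fst G.hom s = 𝟙 _ ≫ _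
      rw [Category.id_comp, Category.assoc, hΨ1]
      simp only [A]
      rw [← Category.assoc, hΦ1, hΦ3]
    · show (Φ ≫ Ψ) ≫ pullback.snd G.hom s = 𝟙 _ ≫ _
      rw [Category.id_comp, Category.assoc, hΨ2]
      simp only [B]
      rw [← Category.assoc, hΦ2, Category.assoc, IsIso.inv_hom_id, Category.comp_id]⟩
  haveI : FrobSch.IsCharP GK.left p := FrobSch.IsCharP.of_hom GK.hom p
  haveI : FrobSch.IsCharP (pullback G.hom s) p := FrobSch.IsCharP.of_hom GK.hom p
  have hfi : (fK.left ≫ iK.left) ≫ Ψ = LVFrob.FN p GK.left n := by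
    have h1 : fK ≫ iK = P.map F := by rw [← Functor.map_comp, hf]
    rw [← Over.comp_left, h1]
    apply pullback.hom_ext
    · simp only [Category.assoc, Ψ, pullback.lift_fst, A]
      rw [← Category.assoc, ← (isPullback_map_left s F).w, Category.assoc, hFfst]
      exact (LVFrob.FN_comm p (pullback.fst G.hom s) n).symm
    · simp only [Category.assoc, Ψ, pullback.lift_snd, B]
      rw [← Category.assoc]
      show (_ ≫ (Red.bc s T).hom) ≫ θ = _
      rw [Over.w]
      exact (LVFrob.FN_comm p (pullback.snd G.hom s) n).symm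
  obtain ⟨a, ha⟩ := exists_factor_red p GK.left n hnil
  let Z := (Scheme.IdealSheafData.vanishingIdeal (⊤ : TopologicalSpace.Closeds GK.left))
  have hle : (Z.subschemeι).ker ≤ (iK.left ≫ Ψ).ker := by
    have e : (fK.left ≫ iK.left ≫ Ψ).ker = (iK.left ≫ Ψ).ker := by
      rw [Scheme.Hom.ker_comp, hkerK, Scheme.IdealSheafData.map_bot]
    rw [← e, ← Category.assoc, hfi, ← ha]
    exact Scheme.Hom.le_ker_comp _ _
  let l : QK.left ⟶ Z.subscheme := IsClosedImmersion.lift Z.subschemeι (iK.left ≫ Ψ) hle
  have hl : l ≫ Z.subschemeι = iK.left ≫ Ψ := IsClosedImmersion.lift_fac _ _ _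
  haveI : IsClosedImmersion l := by
    haveI : IsClosedImmersion (l ≫ Z.subschemeι) := by rw [hl]; infer_instance
    exact IsClosedImmersion.of_comp l Z.subschemeι
  haveI : IsReduced Z.subscheme := Props12.isReduced_subscheme_vanishingIdeal _
  haveI : Surjective l := ⟨fun z => by
    refine ⟨fK.left.base (Z.subschemeι.base z), Z.subschemeι.isClosedEmbedding.injective ?_⟩
    have h1 := congrArg (fun g => (g : GK.left ⟶ GK.left) (Z.subschemeι.base z)) hfi
    exact ((congrArg (fun g : QK.left ⟶ GK.left => g (fK.left.base (Z.subschemeι.base z))) hl).trans h1).trans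
      (LVFrob.FN_apply p n _)⟩
  haveI : IsIso l := isIso_of_isClosedImmersion_of_surjective l
  haveI : IsReduced QK.left := isReduced_of_isOpenImmersion l
  haveI : Smooth (pullback.snd Q.hom s) := UnipStruct.smooth_of_isReduced (k := K) QK
  exact MorphismProperty.of_pullback_snd_of_descendsAlong (P := @Smooth)
    (Q := @Surjective ⊓ @Flat ⊓ @QuasiCompact) (g := s) ⟨⟨inferInstance, inferInstance⟩, inferInstance⟩ ‹_›

/-- The same, with the finite connected kernel. -/
theorem exists_extension (G : Over 𝕊) [GrpObj G] [LocallyOfFiniteType G.hom] :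
    ∃ (H Q : Over 𝕊) (_ : GrpObj H) (_ : GrpObj Q) (i : H ⟶ G) (v : G ⟶ Q),
      IsFinite H.hom ∧ ConnectedSpace H.left ∧ Smooth Q.hom ∧ IsClosedImmersion i.left ∧
        NonAbH1.IsExactSeq Scheme.fppfPrecoverage i v := by
  have hQ : ∃ (Q : Over 𝕊) (_ : GrpObj Q) (v : G ⟶ Q), IsMonHom v ∧ Flat v.left ∧ Surjective v.left ∧
      Function.Injective v.left.base ∧ Smooth Q.hom := by
    obtain ⟨p, hp⟩ := CharP.exists k
    rcases CharP.char_is_prime_or_zero k p with h | rfl
    · haveI := Fact.mk h
      exact exists_quotient p G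
    · haveI := CharP.charP_to_charZero k
      exact ⟨G, inferInstance, 𝟙 G, inferInstance, inferInstanceAs (Flat (𝟙 G.left)),
        inferInstanceAs (Surjective (𝟙 G.left)), fun _ _ h => h, Groth.Agent.S0353.result k G⟩
  obtain ⟨Q, _, v, _, _, _, hinj, _⟩ := hQ
  haveI : LocallyOfFiniteType (v.left ≫ Q.hom) := by rw [Over.w v]; infer_instance
  haveI : LocallyOfFiniteType v.left := locallyOfFiniteType_of_comp v.left Q.hom
  haveI : IsLocallyNoetherian Q.left := LocallyOfFiniteType.isLocallyNoetherian Q.hom
  haveI : IsLocallyNoetherian G.left := LocallyOfFiniteType.isLocallyNoetherian G.hom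
  haveI : LocallyOfFinitePresentation v.left := LocallyOfFinitePresentation.iff_locallyOfFiniteType.mpr inferInstance
  haveI : IsSeparated Q.hom := SGA3xLib.isSeparated_of_grpObj Q
  let i := UnipStruct.kerι v
  haveI : IsMonHom i := UnipStruct.isMonHom_kerι v
  haveI : IsClosedImmersion i.left := UnipStruct.isClosedImmersion_kerι v
  haveI : Mono i.left := inferInstance
  haveI : Mono i := Over.mono_of_mono_left i
  have hk : AlgGrp.IsKernel i v := UnipStruct.isKernel_kerι v
  let H := UnipStruct.kerObj v
  haveI : LocallyOfFiniteType H.hom := by rw [← Over.w i]; infer_instance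
  haveI : Nonempty H.left := ⟨η[H].left.base (IsLocalRing.closedPoint k)⟩
  haveI : Subsingleton H.left := ⟨fun x y => i.left.isClosedEmbedding.injective (hinj (by
    have e : ∀ z, v.left.base (i.left.base z) = (η[Q]).left.base (IsLocalRing.closedPoint k) := fun z => by
      have h1 := congrArg (fun g : H ⟶ Q => g.left.base z) hk.w
      refine h1.trans ?_
      exact congrArg η[Q].left.base (Subsingleton.elim (α := PrimeSpectrum k) _ _)
    rw [e x, e y]))⟩
  haveI : Finite H.left := Finite.of_subsingleton
  haveI : QuasiCompact H.hom := (quasiCompact_iff_compactSpace _).2 inferInstance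
  refine ⟨H, Q, inferInstance, inferInstance, i, v, DimLib.isFinite_of_finite H.hom,
    { toNonempty := inferInstance, toPreconnectedSpace := ⟨Set.subsingleton_univ.isPreconnected⟩ }, ‹_›, ‹_›,
    inferInstance, inferInstance, kernel_comp hk, ?_, ?_⟩
  · have hν : (G ◁ i) ≫ μ[G] = fst G H * (snd G H ≫ i) := by rw [Hom.mul_def]; congr 1
    rw [hν]
    have hw : CommSq (fst G H) (fst G H * (snd G H ≫ i)) v v := ⟨by
      rw [MonObj.mul_comp, Category.assoc (snd G H) i v, kernel_comp hk, MonObj.comp_one, _root_.mul_one]⟩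
    have hex : ∀ c : PullbackCone v v, ∃ h : c.pt ⟶ H, c.fst * (h ≫ i) = c.snd := fun c => by
      obtain ⟨h, hh⟩ := exists_lift_kernel hk (g := c.fst⁻¹ * c.snd) (by
        rw [MonObj.mul_comp, GrpObj.inv_comp, c.condition, _root_.inv_mul_cancel])
      exact ⟨h, by rw [hh, _root_.mul_inv_cancel_left]⟩
    choose h hh using hex
    refine IsPullback.of_isLimit' hw (PullbackCone.IsLimit.mk _ (fun c => lift c.fst (h c))
      (fun c => lift_fst _ _) (fun c => by rw [MonObj.comp_mul, lift_fst, lift_snd_assoc, hh])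
      fun c m h1 h2 => ?_)
    apply CartesianMonoidalCategory.hom_ext
    · rw [lift_fst, h1]
    · rw [lift_snd, ← cancel_mono i, Category.assoc]
      rw [MonObj.comp_mul, h1, ← hh] at h2
      exact mul_left_cancel h2
  · refine ⟨Presieve.singleton v.left, Scheme.Hom.singleton_mem_fppfPrecoverage v.left, fun S' f hf => ?_⟩
    cases hf
    exact ⟨𝟙 _, Category.id_comp _⟩

end Groth.Agent.Frob25
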